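import Groth.Agent.Lib.FittPush13.Thick
import Groth.Agent.Lib.GrpdQuot.Norm
import Groth.Agent.Lib.MorQ9.Generic
import Groth.Agent.Lib.LocProp.Stalk

/-!
# Invariant affine opens of the invariant thickening
-/

set_option autoImplicit false
set_option linter.style.haveILetI false
set_option backward.isDefEq.respectTransparency false

universe u

open CategoryTheory CategoryTheory.Limits AlgebraicGeometry TopologicalSpace
open GrothLib.GrpdQuot (sat subset_sat core mem_core core_le preimage_core preimage_sat)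

namespace GrothLib.FittPush13

/-- An invariant affine open, inside an open whose thinning has finite locally free target map. -/
theorem exists_invariant_affine_thick {S : Scheme.{u}} (G : Grpd.GroupoidScheme S) [IsFinite G.t]
    {Z : Scheme.{u}} (ι' : Z ⟶ G.U) [IsPreimmersion ι'] (hfl : Mor2.IsFinLocFree (pullback.snd G.t ι'))
    (O : G.U.Opens) (hrange : Set.range ι' = (O : Set G.U)) {V : G.U.Opens} (hV : IsAffineOpen V) (hVO : V ≤ O)
    {F : Set G.U} (hF : F.Finite) (hne : F.Nonempty) (hsat : sat G F ⊆ F) (hFV : F ⊆ V) :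
    ∃ W : G.U.Opens, IsAffineOpen W ∧ F ⊆ W ∧ W ≤ V ∧ G.s ⁻¹ᵁ W = G.t ⁻¹ᵁ W := by
  classical
  have horb : ∀ r : G.R, G.t r ∈ F → G.s r ∈ F := fun r hr => by
    obtain ⟨r', hr't, hr's⟩ := GrothLib.GrpdQuot.exists_inv_pt G r
    exact hsat ⟨r', show G.s r' ∈ F from hr's ▸ hr, hr't⟩
  have hFV₀ : F ⊆ core G V := fun x hx => (mem_core G V x).2 fun r hr => hFV (horb r (hr ▸ hx))
  obtain ⟨f, hle, hFf⟩ := GrothLib.GrpdQuot.exists_affine_le_of_finite hV (core G V) (core_le G V) hF hne hFV₀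
  haveI : IsAffine V.toScheme := hV
  let W₁ : G.U.Opens := V.ι ''ᵁ V.toScheme.basicOpen f
  have hW₁ : IsAffineOpen W₁ :=
    ((isAffineOpen_top V.toScheme).basicOpen f).image_of_isOpenImmersion V.ι
  haveI : IsAffine W₁.toScheme := hW₁
  let i₁ := ι' ∣_ W₁
  haveI : IsPreimmersion i₁ :=
    MorphismProperty.of_isPullback (isPullback_morphismRestrict ι' W₁).flip ‹_›
  have hsurj : Function.Surjective i₁ := fun x => by
    have hx : x.1 ∈ Set.range ι' := hrange ▸ hVO (core_le G V (hle x.2))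
    obtain ⟨y, hy⟩ := hx
    exact ⟨⟨y, show ι' y ∈ W₁ from hy ▸ x.2⟩, Subtype.ext ((morphismRestrict_base_coe _ _ _).trans hy)⟩
  haveI : IsClosedImmersion i₁ :=
    IsClosedImmersion.of_isPreimmersion _ (by rw [hsurj.range_eq]; exact isClosed_univ)
  haveI : IsAffine (ι' ⁻¹ᵁ W₁).toScheme := isAffine_of_isAffineHom i₁
  let σ : (G.t ⁻¹ᵁ W₁).toScheme ⟶ V.toScheme := IsOpenImmersion.lift V.ι ((G.t ⁻¹ᵁ W₁).ι ≫ G.s) (by
    rintro _ ⟨r, rfl⟩
    rw [Scheme.Opens.range_ι]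
    have hr : r.1 ∈ G.t ⁻¹ᵁ core G V := hle r.2
    rw [← preimage_core] at hr
    exact core_le G V hr)
  have hσ : σ ≫ V.ι = (G.t ⁻¹ᵁ W₁).ι ≫ G.s := IsOpenImmersion.lift_fac _ _ _
  let q := pullback.snd (G.t ∣_ W₁) i₁
  haveI : IsAffine (G.t ⁻¹ᵁ W₁).toScheme := hW₁.preimage G.t
  haveI : IsAffine (pullback (G.t ∣_ W₁) i₁) := inferInstance
  have hq : Mor2.IsFinLocFree q := by
    obtain ⟨h1, h2, h3⟩ := hfl
    have H₁ : IsPullback (pullback.fst (G.t ∣_ W₁) i₁ ≫ (G.t ⁻¹ᵁ W₁).ι) q G.t (i₁ ≫ W₁.ι) :=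
      (IsPullback.of_hasPullback _ _).paste_horiz (isPullback_morphismRestrict G.t W₁).flip
    rw [morphismRestrict_ι] at H₁
    have H₂ := IsPullback.of_right (h₁₁ := pullback.lift (pullback.fst _ _ ≫ (G.t ⁻¹ᵁ W₁).ι)
        (q ≫ (ι' ⁻¹ᵁ W₁).ι) (by rw [H₁.w, Category.assoc]))
      (by rw [pullback.lift_fst]; exact H₁) (pullback.lift_snd _ _ _) (IsPullback.of_hasPullback G.t ι')
    exact ⟨MorphismProperty.of_isPullback H₂ h1, MorphismProperty.of_isPullback H₂ h2,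
      MorphismProperty.of_isPullback H₂ h3⟩
  haveI := hq.1
  haveI := hq.2.1
  haveI := hq.2.2
  obtain ⟨d₁, hd₁⟩ := GrothLib.GrpdQuot.exists_basicOpen_iff q ((pullback.fst _ _ ≫ σ).appTop f)
  obtain ⟨d, hd⟩ := (IsClosedImmersion.isAffine_surjective_of_isAffine i₁).2 d₁
  have hiff : ∀ x : W₁.toScheme, x ∈ W₁.toScheme.basicOpen d ↔ x.1 ∈ core G W₁ := by
    intro x
    obtain ⟨y, rfl⟩ := hsurj x
    rw [show (i₁ y ∈ W₁.toScheme.basicOpen d ↔ y ∈ (ι' ⁻¹ᵁ W₁).toScheme.basicOpen d₁) from by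
      rw [← hd, ← Scheme.preimage_basicOpen_top]; rfl, hd₁, mem_core]
    have hmem : ∀ p : (G.t ⁻¹ᵁ W₁).toScheme, σ p ∈ V.toScheme.basicOpen f ↔ G.s p.1 ∈ W₁ := fun p => by
      have e : V.ι (σ p) = G.s p.1 := by rw [← Scheme.Hom.comp_apply, hσ]; rfl
      exact ⟨fun h => ⟨σ p, h, e⟩, fun ⟨z, hz, hz'⟩ =>
        V.ι.isOpenEmbedding.injective (hz'.trans e.symm) ▸ hz⟩
    constructor
    · intro h r hr
      have hrW : r ∈ G.t ⁻¹ᵁ W₁ := show G.t r ∈ W₁ from hr.symm ▸ (i₁ y).2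
      obtain ⟨z, hz₁, hz₂⟩ := Scheme.Pullback.exists_preimage_pullback (f := G.t ∣_ W₁) (g := i₁) ⟨r, hrW⟩ y
        (Subtype.ext ((morphismRestrict_base_coe _ _ _).trans hr))
      have h1 := h z hz₂
      rw [← Scheme.preimage_basicOpen_top] at h1
      have h2 : σ (pullback.fst (G.t ∣_ W₁) i₁ z) ∈ V.toScheme.basicOpen f := h1
      rw [hz₁, hmem] at h2
      exact h2
    · intro h z hz
      rw [← Scheme.preimage_basicOpen_top]
      show σ (pullback.fst (G.t ∣_ W₁) i₁ z) ∈ V.toScheme.basicOpen f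
      rw [hmem]
      refine h _ ?_
      rw [← morphismRestrict_base_coe, ← Scheme.Hom.comp_apply, pullback.condition,
        Scheme.Hom.comp_apply]
      exact congrArg (fun w => (i₁ w).1) hz
  have key : W₁.ι ''ᵁ W₁.toScheme.basicOpen d = core G W₁ := by
    ext x
    constructor
    · rintro ⟨y, hy, rfl⟩
      exact (hiff y).1 hy
    · exact fun hx => ⟨⟨x, core_le G W₁ hx⟩, (hiff _).2 hx, rfl⟩
  refine ⟨core G W₁, key ▸ ((isAffineOpen_top W₁.toScheme).basicOpen d).image_of_isOpenImmersion W₁.ι,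
    fun x hx => (mem_core G W₁ x).2 fun r hr => hFf (horb r (hr ▸ hx)),
    (core_le G W₁).trans (hle.trans (core_le G V)), preimage_core G W₁⟩

theorem closure_mem_irreducibleComponents {X : Scheme.{u}} {v : X} (h : ∀ x : X, x ⤳ v → x = v) :
    closure ({v} : Set X) ∈ irreducibleComponents (X : Type u) := by
  refine ⟨isIrreducible_singleton.closure, fun s hs hle => ?_⟩
  obtain ⟨η, hη⟩ := QuasiSober.sober hs.closure isClosed_closure
  have hv : η ⤳ v := specializes_iff_mem_closure.2 (hη.def.symm ▸ subset_closure (hle (subset_closure rfl)))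
  rw [← h η hv, hη.def]
  exact subset_closure

variable {S : Scheme.{u}} (G : Grpd.GroupoidScheme S) [IsFinite G.s] [IsFinite G.t]
  [LocallyOfFinitePresentation G.s] [QuasiSeparatedSpace G.U]

/-- An invariant affine thickening around finitely many orbits of generic points. -/
theorem exists_affine_thickening {m : ℕ} (u : Fin m → G.U)
    (hu : ∀ i (r : G.R), G.s r = u i → ∀ x : G.U, x ⤳ G.t r → x = G.t r) :
    ∃ (V : G.U.Opens) (V' : (↑V : Scheme.{u}).IdealSheafData), IsAffineOpen V ∧ (∀ i, u i ∈ V) ∧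
      G.s ⁻¹ᵁ V = G.t ⁻¹ᵁ V ∧ V'.support = ⊤ ∧ LocallyOfFinitePresentation V'.subschemeι ∧
      (∃ φ : pullback G.s (V'.subschemeι ≫ V.ι) ≅ pullback G.t (V'.subschemeι ≫ V.ι),
        φ.hom ≫ pullback.fst G.t (V'.subschemeι ≫ V.ι) = pullback.fst G.s (V'.subschemeι ≫ V.ι)) ∧
      Mor2.IsFinLocFree (pullback.snd G.s (V'.subschemeι ≫ V.ι)) ∧
      Mor2.IsFinLocFree (pullback.snd G.t (V'.subschemeι ≫ V.ι)) := by
  classical
  obtain ⟨W', hW'⟩ := exists_thickening G
  let ι' := W'.subschemeι ≫ (total G).ι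
  let F : Set G.U := sat G (Set.range u)
  have hFfin : F.Finite := by
    have : F = ⋃ i, ⇑G.t '' (⇑G.s ⁻¹' {u i}) := by
      ext x
      simp only [F, sat, Set.mem_iUnion, Set.mem_image, Set.mem_preimage, Set.mem_range, Set.mem_singleton_iff]
      exact ⟨fun ⟨r, ⟨i, hi⟩, hr⟩ => ⟨i, r, hi.symm, hr⟩, fun ⟨i, r, hi, hr⟩ => ⟨r, ⟨i, hi.symm⟩, hr⟩⟩
    rw [this]
    exact Set.finite_iUnion fun i => GrothLib.GrpdQuot.finite_orbit G (u i)
  have hFgen : ∀ v ∈ F, ∀ x : G.U, x ⤳ v → x = v := by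
    rintro _ ⟨r, ⟨i, hi⟩, rfl⟩
    exact hu i r hi.symm
  have hsat : sat G F ⊆ F := by
    rintro _ ⟨a, ⟨b, hb, hab⟩, rfl⟩
    obtain ⟨q, hqt, hqs⟩ := GrothLib.GrpdQuot.exists_comp_pt G (a := a) (b := b) hab.symm
    exact ⟨q, show G.s q ∈ Set.range u from hqs ▸ hb, hqt⟩
  have hFtot : F ⊆ total G := fun v hv => mem_total_of_generic fun a ha y hy =>
    hFgen (G.t a) (hsat ⟨a, show G.s a ∈ F from ha ▸ hv, rfl⟩) y hy
  obtain ⟨V, hV, hFV, hVle, hinv⟩ : ∃ V : G.U.Opens, IsAffineOpen V ∧ F ⊆ V ∧ V ≤ total G ∧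
      G.s ⁻¹ᵁ V = G.t ⁻¹ᵁ V := by
    rcases F.eq_empty_or_nonempty with hne | hne
    · exact ⟨⊥, isAffineOpen_bot _, by rw [hne]; exact Set.empty_subset _, bot_le, by ext; rfl⟩
    haveI := hFfin.to_subtype
    obtain ⟨A, hA, hd⟩ := GrothLib.MorQ9.exists_disjoint_affine_nhds (fun v : F => v.1)
      (fun v => closure_mem_irreducibleComponents (hFgen v.1 v.2)) Subtype.val_injective
      (fun _ => total G) (fun v => hFtot v.2)
    obtain ⟨V, hV, hFV, hle, hinv⟩ := exists_invariant_affine_thick G ι' (isFinLocFree_t hW') (total G)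
      (by
        rw [Scheme.Hom.comp_base, TopCat.coe_comp, Set.range_comp, Scheme.IdealSheafData.range_subschemeι,
          support_thickening hW']
        exact Set.image_univ.trans (Scheme.Opens.range_ι _))
      (IsAffineOpen.iSup_of_disjoint (fun v => (hA v).1) hd) (iSup_le fun v => (hA v).2.2) hFfin hne hsat
      (fun v hv => Opens.mem_iSup.2 ⟨⟨v, hv⟩, (hA ⟨v, hv⟩).2.1⟩)
    exact ⟨V, hV, hFV, hle.trans (iSup_le fun v => (hA v).2.2), hinv⟩
  let j := G.U.homOfLE hVle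
  let V' := W'.comap j
  let m' : V'.subscheme ⟶ W'.subscheme := (W'.comapIso j).hom ≫ pullback.snd _ _
  have Hm : IsPullback V'.subschemeι m' j W'.subschemeι :=
    IsPullback.of_iso_pullback ⟨by
        rw [← Scheme.IdealSheafData.comapIso_hom_fst, Category.assoc, Category.assoc, pullback.condition]⟩
      (W'.comapIso j) (W'.comapIso_hom_fst j) rfl
  have hm : m' ≫ ι' = V'.subschemeι ≫ V.ι := by
    show m' ≫ W'.subschemeι ≫ (total G).ι = _
    rw [← Category.assoc, ← Hm.w, Category.assoc, Scheme.homOfLE_ι]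
  have hfac : ∀ {T : Scheme.{u}} (h : T ⟶ G.U) (l : T ⟶ W'.subscheme), l ≫ ι' = h → (∀ y, h y ∈ V) →
      ∃ l', l' ≫ V'.subschemeι ≫ V.ι = h := by
    intro T h l hl hy
    let g := IsOpenImmersion.lift V.ι h (by rw [Scheme.Opens.range_ι]; rintro _ ⟨y, rfl⟩; exact hy y)
    have hg : g ≫ V.ι = h := IsOpenImmersion.lift_fac _ _ _
    have w : g ≫ j = l ≫ W'.subschemeι := by
      rw [← cancel_mono (total G).ι, Category.assoc, Scheme.homOfLE_ι, hg, Category.assoc]
      exact hl.symm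
    exact ⟨Hm.lift g l w, by rw [Hm.lift_fst_assoc, hg]⟩
  have hfl : ∀ f : G.R ⟶ G.U, Mor2.IsFinLocFree (pullback.snd f ι') →
      Mor2.IsFinLocFree (pullback.snd f (V'.subschemeι ≫ V.ι)) := by
    rintro f ⟨h1, h2, h3⟩
    have H₁ : IsPullback (pullback.fst f (V'.subschemeι ≫ V.ι)) (pullback.snd f (V'.subschemeι ≫ V.ι)) f
        (m' ≫ ι') := by rw [hm]; exact IsPullback.of_hasPullback _ _
    have H₂ := IsPullback.of_right (h₁₁ := pullback.lift (pullback.fst f (V'.subschemeι ≫ V.ι))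
        (pullback.snd f (V'.subschemeι ≫ V.ι) ≫ m') (by rw [H₁.w]; exact (Category.assoc _ _ _).symm))
      (by rw [pullback.lift_fst]; exact H₁) (pullback.lift_snd _ _ _) (IsPullback.of_hasPullback f ι')
    exact ⟨MorphismProperty.of_isPullback H₂ h1, MorphismProperty.of_isPullback H₂ h2,
      MorphismProperty.of_isPullback H₂ h3⟩
  have hin : ∀ {T : Scheme.{u}} (l : T ⟶ V'.subscheme) (y : T), (l ≫ V'.subschemeι ≫ V.ι) y ∈ V :=
    fun l y => (V'.subschemeι (l y)).2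
  obtain ⟨l₁, h₁⟩ : ∃ l, l ≫ V'.subschemeι ≫ V.ι = pullback.fst G.s (V'.subschemeι ≫ V.ι) ≫ G.t := by
    obtain ⟨l, hl⟩ := (factors_s_iff_t hW' (pullback.fst G.s (V'.subschemeι ≫ V.ι))).1
      ⟨pullback.snd _ _ ≫ m', by rw [Category.assoc, hm, pullback.condition]⟩
    refine hfac _ l hl fun y => ?_
    have := hin (pullback.snd G.s (V'.subschemeι ≫ V.ι)) y
    rw [← pullback.condition, Scheme.Hom.comp_apply] at this
    rw [Scheme.Hom.comp_apply]
    exact (SetLike.ext_iff.1 hinv _).1 this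
  obtain ⟨l₂, h₂⟩ : ∃ l, l ≫ V'.subschemeι ≫ V.ι = pullback.fst G.t (V'.subschemeι ≫ V.ι) ≫ G.s := by
    obtain ⟨l, hl⟩ := (factors_s_iff_t hW' (pullback.fst G.t (V'.subschemeι ≫ V.ι))).2
      ⟨pullback.snd _ _ ≫ m', by rw [Category.assoc, hm, pullback.condition]⟩
    refine hfac _ l hl fun y => ?_
    have := hin (pullback.snd G.t (V'.subschemeι ≫ V.ι)) y
    rw [← pullback.condition, Scheme.Hom.comp_apply] at this
    rw [Scheme.Hom.comp_apply]
    exact (SetLike.ext_iff.1 hinv _).2 this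
  refine ⟨V, V', hV, fun i => hFV (subset_sat G _ ⟨i, rfl⟩), hinv, ?_,
    MorphismProperty.of_isPullback Hm.flip (lfp_subschemeι hW'),
    ⟨⟨pullback.lift _ l₁ h₁.symm, pullback.lift _ l₂ h₂.symm, ?_, ?_⟩, pullback.lift_fst _ _ _⟩,
    hfl _ (isFinLocFree_s hW'), hfl _ (isFinLocFree_t hW')⟩
  · refine Closeds.ext (Set.eq_univ_of_forall fun y => ?_)
    show y ∈ (W'.comap j).support
    rw [Scheme.IdealSheafData.support_comap, support_thickening hW']
    trivial
  · rw [← cancel_mono (pullback.fst G.s _), Category.assoc, pullback.lift_fst, pullback.lift_fst,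
      Category.id_comp]
  · rw [← cancel_mono (pullback.fst G.t _), Category.assoc, pullback.lift_fst, pullback.lift_fst,
      Category.id_comp]

end GrothLib.FittPush13
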