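import Groth.Prelude.Def_Mor2
import Groth.Prelude.Def_Fitting
import Groth.Agent.Lib.Fitting.Local
import Groth.Agent.Lib.Fitting.Support
import Groth.Agent.Lib.BlowUp.IdealComap
import Groth.Agent.Lib.FEt21.Degree
import Groth.Agent.Lib.LocalFP.Basic

/-!
# Fitting ideal sheaves of the push-forward of the structure sheaf along a finite morphism
-/

set_option autoImplicit false
set_option linter.style.haveILetI false
set_option backward.isDefEq.respectTransparency false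

universe u

open CategoryTheory CategoryTheory.Limits AlgebraicGeometry TensorProduct

namespace GrothLib.FittPush13

/-- The Fitting ideal of the target of a ring map as a module over the source. -/
noncomputable def ringFitt {A B : Type u} [CommRing A] [CommRing B] (φ : A →+* B) (k : ℕ) : Ideal A :=
  letI := φ.toAlgebra
  Fitt.ideal A B k

theorem ringFitt_of_isPushout {A B A' B' : CommRingCat.{u}} {φ : A ⟶ B} {ψ : A ⟶ A'} {b : B ⟶ B'}
    {φ' : A' ⟶ B'} (h : IsPushout φ ψ b φ') (hf : φ.hom.Finite) (k : ℕ) :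
    ringFitt φ'.hom k = (ringFitt φ.hom k).map ψ.hom := by
  algebraize [φ.hom, ψ.hom, b.hom, φ'.hom]
  letI : Algebra A B' := (φ'.hom.comp ψ.hom).toAlgebra
  haveI : IsScalarTower A A' B' := IsScalarTower.of_algebraMap_eq fun _ => rfl
  haveI : IsScalarTower A B B' := IsScalarTower.of_algebraMap_eq fun x =>
    (congrArg (fun χ => (ConcreteCategory.hom χ) x) h.w).symm
  have hp : Algebra.IsPushout A A' B B' := CommRingCat.isPushout_iff_isPushout.mp h.flip
  exact Fitting.ideal_of_isBaseChange A' hp.out k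

theorem rankAtStalk_eq_of_ideal_eq {R : Type u} [CommRing R] {M : Type u} [AddCommGroup M] [Module R M]
    [Module.Finite R M] (d : ℕ) (hlow : ∀ k, k < d → Fitt.ideal R M k = ⊥) (htop : Fitt.ideal R M d = ⊤) :
    Module.Projective R M ∧ ∀ p : PrimeSpectrum R, Module.rankAtStalk M p = d := by
  have hfree := fun (p : Ideal R) [p.IsPrime] => Fitting.free_near_of_ideal_eq d hlow htop p
  let s : Set R := {g | Module.Free (Localization.Away g) (LocalizedModule (Submonoid.powers g) M)}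
  have hs : Ideal.span s = ⊤ := by
    by_contra hne
    obtain ⟨p, hp, hle⟩ := Ideal.exists_le_maximal _ hne
    obtain ⟨g, hg, hgf, -⟩ := hfree p
    exact hg (hle (Ideal.subset_span hgf))
  obtain ⟨-, hproj⟩ := GrothLib.LocalFP.finite_projective_of_localizationSpan_free M s hs fun g =>
    ⟨Module.Finite.of_isLocalizedModule (Submonoid.powers g.1)
      (LocalizedModule.mkLinearMap (Submonoid.powers g.1) M), g.2⟩
  refine ⟨hproj, fun p => ?_⟩
  haveI := hproj
  have h1 : ∀ k, ¬ Fitt.ideal R M k ≤ p.asIdeal ↔ Module.rankAtStalk M p ≤ k := fun k => by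
    rw [Fitting.not_le_iff_finrank_fiber_le k p.asIdeal, Module.rankAtStalk_eq]
  refine le_antisymm ((h1 d).1 (by rw [htop]; exact fun hh => p.isPrime.ne_top (top_le_iff.1 hh))) ?_
  by_contra hlt
  have h2 := (h1 (d - 1)).2 (by omega)
  rw [hlow (d - 1) (by omega)] at h2
  exact h2 bot_le

variable {X Y : Scheme.{u}} (f : X ⟶ Y) [IsFinite f]

theorem ringFitt_app {P T : Scheme.{u}} {g' : P ⟶ X} {f' : P ⟶ T} {g : T ⟶ Y}
    (H : IsPullback g' f' f g) (V : Y.affineOpens) (V' : T.affineOpens) (h : V'.1 ≤ g ⁻¹ᵁ V.1) (k : ℕ) :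
    ringFitt (f'.app V'.1).hom k = (ringFitt (f.app V.1).hom k).map (g.appLE V.1 V'.1 h).hom := by
  have hle : f' ⁻¹ᵁ V'.1 ≤ g' ⁻¹ᵁ (f ⁻¹ᵁ V.1) := by
    rw [← Scheme.Hom.comp_preimage, H.w, Scheme.Hom.comp_preimage]
    exact f'.preimage_mono h
  have hU : f' ⁻¹ᵁ V'.1 = g' ⁻¹ᵁ (f ⁻¹ᵁ V.1) ⊓ f' ⁻¹ᵁ V'.1 := (inf_eq_right.2 hle).symm
  haveI := isIso_pushoutSection_of_isAffineOpen H h (le_refl (f ⁻¹ᵁ V.1)) hU V.2 V'.2 (V.2.preimage f)
  have := (isIso_pushoutSection_iff H h (le_refl (f ⁻¹ᵁ V.1)) hU).1 inferInstance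
  have hfin : (f.appLE V.1 (f ⁻¹ᵁ V.1) le_rfl).hom.Finite := by
    rw [← Scheme.Hom.app_eq_appLE]; exact f.finite_app V.1 V.2
  have key := ringFitt_of_isPushout this hfin k
  rwa [← Scheme.Hom.app_eq_appLE, ← Scheme.Hom.app_eq_appLE] at key

/-- The Fitting ideal sheaf of the push-forward of the structure sheaf along a finite morphism. -/
noncomputable def fitt (k : ℕ) : Y.IdealSheafData where
  ideal V := ringFitt (f.app V.1).hom k
  map_ideal_basicOpen V a := by
    have H : IsPullback (𝟙 X) f f (𝟙 Y) := IsPullback.of_horiz_isIso ⟨by simp⟩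
    have := ringFitt_app f H V (Y.affineBasicOpen a) (Y.basicOpen_le a) k
    exact ((congrArg (fun χ => (ringFitt (f.app V.1).hom k).map χ)
      (by simp [Scheme.Hom.appLE])).trans this.symm)

theorem fitt_ideal (k : ℕ) (V : Y.affineOpens) : (fitt f k).ideal V = ringFitt (f.app V.1).hom k := rfl

theorem fitt_mono : Monotone (fitt f) := fun i j hij => Scheme.IdealSheafData.le_def.2 fun V => by
  rw [fitt_ideal, fitt_ideal, ringFitt, ringFitt]
  letI := (f.app V.1).hom.toAlgebra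
  haveI : Module.Finite Γ(Y, V.1) Γ(X, f ⁻¹ᵁ V.1) := f.finite_app V.1 V.2
  exact Fitting.ideal_mono hij

theorem comap_fitt {P T : Scheme.{u}} {g' : P ⟶ X} {f' : P ⟶ T} {g : T ⟶ Y}
    (H : IsPullback g' f' f g) [IsFinite f'] (k : ℕ) : (fitt f k).comap g = fitt f' k := by
  let ι := {p : T.affineOpens × Y.affineOpens // p.1.1 ≤ g ⁻¹ᵁ p.2.1}
  refine Scheme.IdealSheafData.ext_of_iSup_eq_top (fun p : ι => p.1.1) (eq_top_iff.2 fun x _ => ?_)
    fun p => ?_
  · obtain ⟨_, ⟨V, hV, rfl⟩, hxV, -⟩ :=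
      Y.isBasis_affineOpens.exists_subset_of_mem_open (Set.mem_univ (g x)) isOpen_univ
    obtain ⟨_, ⟨V', hV', rfl⟩, hxV', hle⟩ :=
      T.isBasis_affineOpens.exists_subset_of_mem_open (show x ∈ (g ⁻¹ᵁ V : Set T) from hxV) (g ⁻¹ᵁ V).2
    exact TopologicalSpace.Opens.mem_iSup.2 ⟨⟨(⟨V', hV'⟩, ⟨V, hV⟩), hle⟩, hxV'⟩
  · rw [GrothLib.BlowUp.ideal_comap_eq_map _ g p.1.2 p.1.1 p.2, fitt_ideal, fitt_ideal,
      ringFitt_app f H p.1.2 p.1.1 p.2 k]

/-- A finite morphism with a section has vanishing zeroth Fitting ideal. -/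
theorem fitt_zero {σ : Y ⟶ X} (hσ : σ ≫ f = 𝟙 Y) : fitt f 0 = ⊥ := by
  refine Scheme.IdealSheafData.ext (funext fun V => ?_)
  rw [fitt_ideal, ringFitt, Scheme.IdealSheafData.ideal_bot, Pi.bot_apply, eq_bot_iff]
  letI := (f.app V.1).hom.toAlgebra
  haveI : Module.Finite Γ(Y, V.1) Γ(X, f ⁻¹ᵁ V.1) := f.finite_app V.1 V.2
  intro a ha
  have h1 : f.app V.1 a = 0 := by
    have := Module.mem_annihilator.1 (Fitting.ideal_zero_le_annihilator ha) 1
    rwa [Algebra.smul_def, _root_.mul_one] at this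
  have hV : V.1 ≤ σ ⁻¹ᵁ (f ⁻¹ᵁ V.1) := by rw [← Scheme.Hom.comp_preimage, hσ]; exact le_rfl
  have h2 : f.app V.1 ≫ σ.appLE (f ⁻¹ᵁ V.1) V.1 hV = 𝟙 _ := by
    rw [Scheme.Hom.app_eq_appLE, Scheme.Hom.appLE_comp_appLE]
    simp only [hσ]
    simp [Scheme.Hom.appLE]
    exact Y.presheaf.map_id _
  have h3 : (f.app V.1 ≫ σ.appLE (f ⁻¹ᵁ V.1) V.1 hV) a = 0 := by
    rw [CommRingCat.comp_apply, h1, map_zero]
  rwa [h2] at h3

theorem iInter_support_fitt : (⋂ k, ((fitt f k).support : Set Y)) = ∅ := by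
  refine Set.eq_empty_iff_forall_notMem.2 fun x hx => ?_
  obtain ⟨_, ⟨V, hV, rfl⟩, hxV, -⟩ :=
    Y.isBasis_affineOpens.exists_subset_of_mem_open (Set.mem_univ x) isOpen_univ
  letI := (f.app V).hom.toAlgebra
  haveI : Module.Finite Γ(Y, V) Γ(X, f ⁻¹ᵁ V) := f.finite_app V hV
  obtain ⟨n, y, hy⟩ := Fitting.exists_tuple Γ(Y, V) Γ(X, f ⁻¹ᵁ V)
  have htop : (fitt f n).ideal ⟨V, hV⟩ = ⊤ := Fitting.ideal_eq_top_of_le y hy le_rfl
  have h2 := Set.mem_iInter.1 hx n
  rw [SetLike.mem_coe, Scheme.IdealSheafData.mem_support_iff_of_mem (U := ⟨V, hV⟩) hxV, htop,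
    Scheme.mem_zeroLocus_iff] at h2
  exact h2 1 trivial (by simpa using hxV)

omit [IsFinite f] in
theorem isPullback_isoSpec {W : Y.Opens} (hW : IsAffineOpen W) [IsAffineHom f] :
    IsPullback ((hW.preimage f).isoSpec.hom) (f ∣_ W) (Spec.map (f.app W)) hW.isoSpec.hom := by
  refine IsPullback.of_horiz_isIso ⟨?_⟩
  rw [← cancel_mono hW.fromSpec, Category.assoc, Category.assoc, Scheme.Hom.app_eq_appLE,
    IsAffineOpen.SpecMap_appLE_fromSpec (hV := hW.preimage f), IsAffineOpen.isoSpec_hom_fromSpec_assoc,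
    IsAffineOpen.isoSpec_hom_fromSpec, morphismRestrict_ι]

/-- A finite morphism with Fitting ideals those of a locally free module of rank `d`. -/
theorem isFinLocFreeOfDeg_of_fitt (d : ℕ) (hlow : ∀ k, k < d → fitt f k = ⊥) (htop : fitt f d = ⊤) :
    Mor2.IsFinLocFreeOfDeg d f := by
  have H : ∀ W : Y.affineOpens, letI := (f.app W.1).hom.toAlgebra
      Module.Finite Γ(Y, W.1) Γ(X, f ⁻¹ᵁ W.1) ∧ Module.Projective Γ(Y, W.1) Γ(X, f ⁻¹ᵁ W.1) ∧
        ∀ p, Module.rankAtStalk (R := Γ(Y, W.1)) Γ(X, f ⁻¹ᵁ W.1) p = d := by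
    intro W
    letI := (f.app W.1).hom.toAlgebra
    haveI : Module.Finite Γ(Y, W.1) Γ(X, f ⁻¹ᵁ W.1) := f.finite_app W.1 W.2
    exact ⟨this, rankAtStalk_eq_of_ideal_eq d
      (fun k hk => congrArg (fun I : Y.IdealSheafData => I.ideal W) (hlow k hk))
      (congrArg (fun I : Y.IdealSheafData => I.ideal W) htop)⟩
  have hflat : Flat f := by
    refine IsZariskiLocalAtTarget.of_iSup_eq_top (P := @Flat) (fun W : Y.affineOpens => W.1)
      (iSup_affineOpens_eq_top Y) fun W => MorphismProperty.of_isPullback (isPullback_isoSpec f W.2) ?_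
    letI := (f.app W.1).hom.toAlgebra
    haveI := (H W).2.1
    exact Flat.SpecMap_iff.2 (RingHom.flat_algebraMap_iff.2 inferInstance)
  have hlfp : LocallyOfFinitePresentation f := by
    refine IsZariskiLocalAtTarget.of_iSup_eq_top (P := @LocallyOfFinitePresentation)
      (fun W : Y.affineOpens => W.1)
      (iSup_affineOpens_eq_top Y) fun W => MorphismProperty.of_isPullback (isPullback_isoSpec f W.2) ?_
    letI := (f.app W.1).hom.toAlgebra
    haveI := (H W).1
    haveI := (H W).2.1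
    haveI : Module.FinitePresentation Γ(Y, W.1) Γ(X, f ⁻¹ᵁ W.1) :=
      Module.finitePresentation_of_projective _ _
    exact (HasRingHomProperty.Spec_iff (P := @LocallyOfFinitePresentation)).2
      (RingHom.finitePresentation_algebraMap.2
        (Algebra.FinitePresentation.of_finitePresentation _ _))
  refine ⟨⟨inferInstance, hflat, hlfp⟩, fun y => ?_⟩
  obtain ⟨_, ⟨W, hW, rfl⟩, hyW, -⟩ :=
    Y.isBasis_affineOpens.exists_subset_of_mem_open (Set.mem_univ y) isOpen_univ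
  obtain ⟨p, rfl⟩ : y ∈ Set.range hW.fromSpec := hW.range_fromSpec ▸ hyW
  rw [FEt21.finrank_eq_finrank f hW p]
  exact (H ⟨W, hW⟩).2.2 p

end GrothLib.FittPush13
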