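import Groth.Agent.Lib.FittPush13.Affine
import Groth.Agent.Lib.FinAff13.Main
import Groth.Agent.Lib.RedSub.Basic

/-!
# Invariant affine neighbourhoods of orbits of points of height at most one
-/

set_option autoImplicit false
set_option linter.style.haveILetI false
set_option backward.isDefEq.respectTransparency false
set_option maxHeartbeats 1000000

universe u

open CategoryTheory CategoryTheory.Limits AlgebraicGeometry TopologicalSpace
open GrothLib.GrpdQuot (sat subset_sat core mem_core core_le preimage_core preimage_sat)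

namespace GrothLib.FittPush13

/-- The open where a finite morphism to a reduced scheme is locally free, containing the generic points. -/
theorem exists_open_finLocFree {P Z : Scheme.{u}} (q : P ⟶ Z) [IsReduced Z] [IsFinite q]
    [LocallyOfFinitePresentation q] {σ : Z ⟶ P} (hσ : σ ≫ q = 𝟙 Z) :
    ∃ N : Z.Opens, Mor2.IsFinLocFree (q ∣_ N) ∧ ∀ z : Z, (∀ x : Z, x ⤳ z → x = z) → z ∈ N := by
  classical
  let Nr : ℕ → Z.Opens := fun r =>
    ⟨interior ((fitt q r).support : Set Z), isOpen_interior⟩ ⊓ (fitt q (r + 1)).support.compl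
  let N : Z.Opens := ⨆ r, Nr r
  refine ⟨N, ?_, fun z hz => ?_⟩
  · let O : ℕ → (N : Scheme.{u}).Opens := fun r => N.ι ⁻¹ᵁ Nr r
    have hcov : ⨆ r, O r = ⊤ := eq_top_iff.2 fun y _ => by
      obtain ⟨r, hr⟩ := Opens.mem_iSup.1 y.2
      exact Opens.mem_iSup.2 ⟨r, hr⟩
    haveI : IsFinite (q ∣_ N) := MorphismProperty.of_isPullback (isPullback_morphismRestrict q N).flip ‹_›
    have hloc : ∀ r, Mor2.IsFinLocFreeOfDeg (r + 1) (q ∣_ N ∣_ O r) := by
      intro r
      have H := (isPullback_morphismRestrict (q ∣_ N) (O r)).flip.paste_horiz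
        (isPullback_morphismRestrict q N).flip
      haveI : IsFinite (q ∣_ N ∣_ O r) := MorphismProperty.of_isPullback H ‹IsFinite q›
      refine isFinLocFreeOfDeg_of_fitt _ (r + 1) (fun k hk => ?_) ?_
      · rw [← comap_fitt q H k, ← Scheme.IdealSheafData.support_eq_top_iff, Scheme.IdealSheafData.support_comap]
        refine Closeds.ext (Set.eq_univ_of_forall fun y => ?_)
        exact (Scheme.IdealSheafData.support_antitone (fitt_mono q (Nat.lt_succ_iff.1 hk)))
          (interior_subset (show ((O r).ι ≫ N.ι) y ∈ interior ((fitt q r).support : Set Z) from y.2.1))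
      · rw [← comap_fitt q H (r + 1), ← Scheme.IdealSheafData.support_eq_bot_iff,
          Scheme.IdealSheafData.support_comap]
        exact Closeds.ext (Set.eq_empty_iff_forall_notMem.2 fun y hy => y.2.2 hy)
    exact ⟨inferInstance, IsZariskiLocalAtTarget.of_iSup_eq_top (P := @Flat) O hcov fun r => (hloc r).1.2.1,
      IsZariskiLocalAtTarget.of_iSup_eq_top (P := @LocallyOfFinitePresentation) O hcov fun r => (hloc r).1.2.2⟩
  · have h0 : z ∈ (fitt q 0).support := by rw [fitt_zero q hσ]; trivial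
    have hex : ∃ n, z ∉ (fitt q n).support := by
      by_contra hc
      push Not at hc
      exact Set.eq_empty_iff_forall_notMem.1 (iInter_support_fitt q) z (Set.mem_iInter.2 hc)
    obtain ⟨r, hr⟩ : ∃ r, Nat.find hex = r + 1 := by
      refine ⟨Nat.find hex - 1, ?_⟩
      rcases Nat.eq_zero_or_pos (Nat.find hex) with h | h
      · exact absurd h0 (h ▸ Nat.find_spec hex)
      · omega
    refine Opens.mem_iSup.2 ⟨r, ?_, show z ∉ (fitt q (r + 1)).support from hr ▸ Nat.find_spec hex⟩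
    exact mem_interior_support_of_generic _ (fitt_fg q r) hz
      (not_not.1 (Nat.find_min hex (show r < Nat.find hex by omega)))

variable {S : Scheme.{u}} (G : Grpd.GroupoidScheme S) [IsFinite G.t]

/-- The norm: on an affine scheme over which the target map is finite locally free, the locus of the
points whose orbit lies in a basic open is a basic open. -/
theorem exists_basicOpen_core {Y₁ : Scheme.{u}} [IsAffine Y₁] (y : Y₁ ⟶ G.U)
    (hfl : Mor2.IsFinLocFree (pullback.snd G.t y)) {V : G.U.Opens} (f : Γ(G.U, V))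
    (hy : ∀ z, y z ∈ core G V) :
    ∃ d : Γ(Y₁, ⊤), ∀ z, z ∈ Y₁.basicOpen d ↔ y z ∈ core G (G.U.basicOpen f) := by
  obtain ⟨h1, h2, h3⟩ := hfl
  haveI : IsAffine (pullback G.t y) := isAffine_of_isAffineHom (pullback.snd G.t y)
  let τ := pullback.fst G.t y ≫ G.s
  have hle : (⊤ : (pullback G.t y).Opens) ≤ τ ⁻¹ᵁ V := fun p _ => by
    refine (mem_core G V _).1 (hy (pullback.snd G.t y p)) (pullback.fst G.t y p) ?_
    rw [← Scheme.Hom.comp_apply, pullback.condition, Scheme.Hom.comp_apply]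
  obtain ⟨d, hd⟩ := GrothLib.GrpdQuot.exists_basicOpen_iff (pullback.snd G.t y) (τ.appLE V ⊤ hle f)
  have hbo : (pullback G.t y).basicOpen (τ.appLE V ⊤ hle f) = τ ⁻¹ᵁ G.U.basicOpen f := by
    show (pullback G.t y).basicOpen (((pullback G.t y).presheaf.map (homOfLE hle).op) (τ.app V f)) = _
    rw [Scheme.basicOpen_res, ← Scheme.preimage_basicOpen, top_inf_eq]
  refine ⟨d, fun z => ?_⟩
  rw [hd, mem_core, hbo]
  constructor
  · intro h r hr
    obtain ⟨p, hp₁, hp₂⟩ := Scheme.Pullback.exists_preimage_pullback (f := G.t) (g := y) r z hr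
    have := h p hp₂
    rw [Scheme.Hom.mem_preimage, Scheme.Hom.comp_apply, hp₁] at this
    exact this
  · intro h p hp
    rw [Scheme.Hom.mem_preimage, Scheme.Hom.comp_apply]
    refine h _ ?_
    rw [← Scheme.Hom.comp_apply, pullback.condition, Scheme.Hom.comp_apply, hp]

variable [IsFinite G.s] [G.U.IsSeparated] [IsLocallyNoetherian G.U]

theorem exists_basicOpen_le_of_finite {V : G.U.Opens} (hV : IsAffineOpen V) (O : G.U.Opens) (hOV : O ≤ V)
    {F : Set G.U} (hF : F.Finite) (hne : F.Nonempty) (hFO : F ⊆ O) :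
    ∃ f : Γ(G.U, V), G.U.basicOpen f ≤ O ∧ F ⊆ G.U.basicOpen f := by
  obtain ⟨f, hf, hFf⟩ := GrothLib.GrpdQuot.exists_affine_le_of_finite hV O hOV hF hne hFO
  rw [Scheme.Opens.ι_image_basicOpen'] at hf hFf
  exact ⟨_, hf, hFf⟩

/-- The invariant affine neighbourhood. -/
theorem exists_invariant_affine_dim_one (u : G.U)
    (hdim : ∀ r : G.R, G.s r = u → ringKrullDim (G.U.presheaf.stalk (G.t r)) ≤ 1) :
    ∃ W : G.U.Opens, IsAffineOpen W ∧ u ∈ W ∧ G.s ⁻¹ᵁ W = G.t ⁻¹ᵁ W := by
  classical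
  haveI : LocallyOfFinitePresentation G.s :=
    GrothLib.LocProp.locallyOfFinitePresentation_of_isLocallyNoetherian G.s
  haveI : LocallyOfFinitePresentation G.t :=
    GrothLib.LocProp.locallyOfFinitePresentation_of_isLocallyNoetherian G.t
  let F : Set G.U := sat G {u}
  have hF : F.Finite := GrothLib.GrpdQuot.finite_orbit G u
  have hne : F.Nonempty := ⟨u, subset_sat G {u} rfl⟩
  have hsat : ∀ r : G.R, G.s r ∈ F → G.t r ∈ F := fun r hr => by
    have h : r ∈ ⇑G.s ⁻¹' sat G {u} := hr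
    rw [preimage_sat] at h
    exact h
  have hsat' : ∀ r : G.R, G.t r ∈ F → G.s r ∈ F := fun r hr => by
    have h : r ∈ ⇑G.t ⁻¹' sat G {u} := hr
    rw [← preimage_sat] at h
    exact h
  have hFdim : ∀ x ∈ F, ringKrullDim (G.U.presheaf.stalk x) ≤ 1 := by
    rintro _ ⟨r, hr, rfl⟩
    exact hdim r hr
  obtain ⟨A, hA, hFA⟩ := GrothLib.FinAff13.exists_affine_of_finite hF hFdim
  have hFcore : F ⊆ core G A := fun x hx => (mem_core G A x).2 fun r hr => hFA (hsat' r (hr ▸ hx))
  obtain ⟨W', hW'⟩ := exists_thickening G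
  let ι' := W'.subschemeι ≫ (total G).ι
  have hι' : Set.range ι' = (total G : Set G.U) := by
    rw [Scheme.Hom.comp_base, TopCat.coe_comp, Set.range_comp, Scheme.IdealSheafData.range_subschemeι,
      support_thickening hW']
    exact Set.image_univ.trans (Scheme.Opens.range_ι _)
  have hWinv : ∀ r : G.R, G.s r ∈ total G ↔ G.t r ∈ total G :=
    fun r => SetLike.ext_iff.1 (preimage_total G) r
  obtain ⟨f₁, hf₁, hFf₁, hC⟩ : ∃ f₁ : Γ(G.U, A), G.U.basicOpen f₁ ≤ core G A ∧ F ⊆ G.U.basicOpen f₁ ∧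
      ∀ x ∈ G.U.basicOpen f₁, x ∉ total G → x ∈ core G (G.U.basicOpen f₁) := by
    by_cases hu : u ∈ total G
    · obtain ⟨f, hf, hFf⟩ := exists_basicOpen_le_of_finite G hA (core G A ⊓ total G)
        (inf_le_left.trans (core_le G A)) hF hne (by
          rintro x hx
          refine ⟨hFcore hx, ?_⟩
          obtain ⟨r, hr, rfl⟩ := hx
          exact (hWinv r).1 (Set.mem_singleton_iff.1 hr ▸ hu))
      exact ⟨f, hf.trans inf_le_left, hFf, fun x hx hxW => absurd (hf hx).2 hxW⟩
    have hFC : ∀ x ∈ F, x ∉ total G := by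
      rintro _ ⟨r, hr, rfl⟩ h
      exact hu (Set.mem_singleton_iff.1 hr ▸ (hWinv r).2 h)
    let C : Closeds G.U := ⟨(total G : Set G.U)ᶜ, (total G).2.isClosed_compl⟩
    let I := Scheme.IdealSheafData.vanishingIdeal C
    haveI : IsReduced I.subscheme := GrothLib.RedSub.isReduced_subscheme_vanishingIdeal C
    let ιC := I.subschemeι
    have hrange : Set.range ιC = (total G : Set G.U)ᶜ := by
      rw [Scheme.IdealSheafData.range_subschemeι, Scheme.IdealSheafData.coe_support_vanishingIdeal]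
      rfl
    let q := pullback.snd G.t ιC
    obtain ⟨N, hN, hgen⟩ := exists_open_finLocFree q
      (σ := pullback.lift (ιC ≫ G.e) (𝟙 _) (by rw [Category.assoc, G.e_t, Category.comp_id, Category.id_comp]))
      (pullback.lift_snd _ _ _)
    have hFN : ∀ x ∈ F, ∃ z ∈ N, ιC z = x := by
      intro x hx
      obtain ⟨z, rfl⟩ : x ∈ Set.range ιC := hrange ▸ hFC x hx
      refine ⟨z, hgen z fun w hw => ιC.isEmbedding.injective ?_, rfl⟩
      by_contra hne'
      have hxy : ιC w ⤳ ιC z := hw.map ιC.continuous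
      have hwW : ιC w ∉ total G := fun h => by
        have h' : ιC w ∈ (total G : Set G.U)ᶜ := hrange ▸ ⟨w, rfl⟩
        exact h' h
      refine hwW (mem_total_of_generic fun a ha c hc => ?_)
      -- lift the specialisation along the source map
      obtain ⟨a', hsp, ha'⟩ := G.s.isClosedMap.specializingMap (ha.symm ▸ hxy : G.s a ⤳ ιC z)
      have hne2 : G.t a ≠ G.t a' := fun h => by
        haveI : LocallyQuasiFinite G.t := inferInstance
        have heq : a' = a := by
          have hd := G.t.isDiscrete_preimage_singleton (G.t a)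
          haveI := isDiscrete_iff_discreteTopology.1 hd
          have hs : (⟨a, rfl⟩ : ↥(⇑G.t ⁻¹' {G.t a})) ⤳ ⟨a', h.symm⟩ := (subtype_specializes_iff _ _).2 hsp
          exact (congrArg Subtype.val (specializes_iff_eq.1 hs)).symm
        exact hne' (ha ▸ heq ▸ ha')
      have hmemF : G.t a' ∈ F := hsat a' (ha'.symm ▸ hx)
      by_contra hc'
      exact hne2 (GrothLib.FinAff13.eq_of_chain (hFdim _ hmemF) hc (hsp.map G.t.continuous) hc')
    let Ω : G.U.Opens := core G A ⊓
      ⟨(ιC '' (N : Set I.subscheme)ᶜ)ᶜ, (ιC.isClosedMap _ N.2.isClosed_compl).isOpen_compl⟩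
    obtain ⟨f₀, hf₀, hFf₀⟩ := exists_basicOpen_le_of_finite G hA Ω (inf_le_left.trans (core_le G A)) hF hne
      fun x hx => ⟨hFcore hx, fun ⟨z, hz, hzx⟩ => by
        obtain ⟨z', hz', hz'x⟩ := hFN x hx
        exact hz (ιC.isEmbedding.injective (hz'x.trans hzx.symm) ▸ hz')⟩
    let A₀ : G.U.Opens := G.U.basicOpen f₀
    have hA₀ : IsAffineOpen A₀ := hA.basicOpen f₀
    haveI : IsAffine A₀.toScheme := hA₀
    haveI : IsAffine (ιC ⁻¹ᵁ A₀).toScheme := hA₀.preimage ιC
    have hle : ιC ⁻¹ᵁ A₀ ≤ N := fun z hz => by_contra fun h => (hf₀ hz).2 ⟨z, h, rfl⟩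
    let y := (ιC ⁻¹ᵁ A₀).ι ≫ ιC
    have hfl : Mor2.IsFinLocFree (pullback.snd G.t y) := by
      obtain ⟨h1, h2, h3⟩ := hN
      have H₀ := (isPullback_morphismRestrict q N).flip.paste_horiz (IsPullback.of_hasPullback G.t ιC)
      have H₁ : IsPullback (pullback.fst G.t y) (pullback.snd G.t y) G.t
          (I.subscheme.homOfLE hle ≫ N.ι ≫ ιC) := by
        rw [Scheme.homOfLE_ι_assoc]; exact IsPullback.of_hasPullback G.t y
      have H₂ := IsPullback.of_right (h₁₁ := H₀.lift (pullback.fst G.t y)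
          (pullback.snd G.t y ≫ I.subscheme.homOfLE hle) (by rw [H₁.w, Category.assoc]))
        (by rw [H₀.lift_fst]; exact H₁) (H₀.lift_snd _ _ _) H₀
      exact ⟨MorphismProperty.of_isPullback H₂ h1, MorphismProperty.of_isPullback H₂ h2,
        MorphismProperty.of_isPullback H₂ h3⟩
    obtain ⟨d₁, hd₁⟩ := exists_basicOpen_core G y hfl f₀ fun z => (hf₀ (show ιC z.1 ∈ A₀ from z.2)).1
    obtain ⟨d, hd⟩ := (IsClosedImmersion.isAffine_surjective_of_isAffine (ιC ∣_ A₀)).2 d₁
    obtain ⟨f₁, hf₁⟩ := hA.basicOpen_basicOpen_is_basicOpen f₀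
      (G.U.presheaf.map (eqToHom A₀.ι_image_top.symm).op d)
    have hmem : ∀ z : (ιC ⁻¹ᵁ A₀).toScheme, ιC z.1 ∈ G.U.basicOpen f₁ ↔ ιC z.1 ∈ core G A₀ := fun z => by
      refine Iff.trans ?_ (hd₁ z)
      rw [hf₁, ← Scheme.Opens.ι_image_basicOpen', ← hd, ← Scheme.preimage_basicOpen_top]
      constructor
      · rintro ⟨w, hw, hw'⟩
        have : w = (ιC ∣_ A₀) z := A₀.ι.isOpenEmbedding.injective
          (hw'.trans (morphismRestrict_base_coe _ _ _).symm)
        show (ιC ∣_ A₀) z ∈ A₀.toScheme.basicOpen d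
        rw [← this]
        exact hw
      · intro h
        exact ⟨_, h, morphismRestrict_base_coe _ _ _⟩
    have hW₁A₀ : G.U.basicOpen f₁ ≤ A₀ := by
      rw [hf₁]
      exact G.U.basicOpen_le _
    refine ⟨f₁, fun x hx => (hf₀ (hW₁A₀ hx)).1, fun x hx => ?_, fun x hx hxW => ?_⟩
    · obtain ⟨z, -, rfl⟩ := hFN x hx
      exact (hmem ⟨z, hFf₀ hx⟩).2 ((mem_core G A₀ _).2 fun r hr => hFf₀ (hsat' r (hr ▸ hx)))
    · obtain ⟨z, rfl⟩ : x ∈ Set.range ιC := hrange ▸ hxW
      have hcz := (hmem ⟨z, hW₁A₀ hx⟩).1 hx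
      refine (mem_core G _ _).2 fun r hr => ?_
      have hsr : G.s r ∈ core G A₀ := by
        have h : r ∈ G.t ⁻¹ᵁ core G A₀ := show G.t r ∈ core G A₀ from hr ▸ hcz
        rw [← preimage_core] at h
        exact h
      obtain ⟨z', hz'⟩ : G.s r ∈ Set.range ιC :=
        hrange ▸ fun h : G.s r ∈ total G => hxW (hr ▸ (hWinv r).1 h)
      rw [← hz'] at hsr ⊢
      exact (hmem ⟨z', core_le G A₀ hsr⟩).2 hsr
  -- the open of the points whose orbit lies in the basic open
  let W₁ : G.U.Opens := G.U.basicOpen f₁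
  have hW₁ : IsAffineOpen W₁ := hA.basicOpen f₁
  haveI : IsAffine W₁.toScheme := hW₁
  refine ⟨core G W₁, ?_, (mem_core G W₁ u).2 fun r hr => hFf₁ (hsat' r (hr ▸ subset_sat G {u} rfl)),
    preimage_core G W₁⟩
  haveI : IsAffineHom (G.U.homOfLE (core_le G W₁)) := by
    refine isAffineHom_of_forall_exists_isAffineOpen _ fun x => ?_
    have hpre : ∀ (B : G.U.Opens), B ≤ W₁ → IsAffineOpen (B ⊓ core G W₁) →
        IsAffineOpen (G.U.homOfLE (core_le G W₁) ⁻¹ᵁ (W₁.ι ⁻¹ᵁ B)) := fun B hB h => by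
      rw [← Scheme.Hom.comp_preimage, Scheme.homOfLE_ι]
      have : (core G W₁).ι ⁻¹ᵁ B = (core G W₁).ι ⁻¹ᵁ (B ⊓ core G W₁) := by
        ext z
        exact ⟨fun hz => ⟨hz, z.2⟩, fun hz => hz.1⟩
      rw [this]
      exact h.preimage_of_isOpenImmersion _ (by rw [Scheme.Opens.opensRange_ι]; exact inf_le_right)
    by_cases hx : x.1 ∈ total G
    · obtain ⟨B, hB, hxB, hBle⟩ := exists_isAffineOpen_mem_and_subset (x := x.1) (U := W₁ ⊓ total G) ⟨x.2, hx⟩
      have hBW : B ≤ W₁ := fun z hz => (hBle hz).1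
      refine ⟨W₁.ι ⁻¹ᵁ B, hxB, hB.preimage_of_isOpenImmersion _ (by rw [Scheme.Opens.opensRange_ι]; exact hBW),
        hpre B hBW ?_⟩
      haveI : IsAffine B.toScheme := hB
      let i₁ := ι' ∣_ B
      haveI : IsPreimmersion i₁ :=
        MorphismProperty.of_isPullback (isPullback_morphismRestrict ι' B).flip
          (inferInstance : IsPreimmersion ι')
      have hsurj : Function.Surjective i₁ := fun z => by
        obtain ⟨w, hw⟩ : z.1 ∈ Set.range ι' := hι' ▸ (hBle z.2).2
        exact ⟨⟨w, show ι' w ∈ B from hw ▸ z.2⟩, Subtype.ext ((morphismRestrict_base_coe _ _ _).trans hw)⟩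
      haveI : IsClosedImmersion i₁ :=
        IsClosedImmersion.of_isPreimmersion _ (by rw [hsurj.range_eq]; exact isClosed_univ)
      haveI : IsAffine (ι' ⁻¹ᵁ B).toScheme := isAffine_of_isAffineHom i₁
      have hfl : Mor2.IsFinLocFree (pullback.snd G.t (i₁ ≫ B.ι)) := by
        obtain ⟨h1, h2, h3⟩ := isFinLocFree_t hW'
        have H₁ : IsPullback (pullback.fst G.t (i₁ ≫ B.ι)) (pullback.snd G.t (i₁ ≫ B.ι)) G.t
            ((ι' ⁻¹ᵁ B).ι ≫ ι') := by
          rw [← morphismRestrict_ι]; exact IsPullback.of_hasPullback G.t (i₁ ≫ B.ι)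
        have H₂ := IsPullback.of_right (h₁₁ := pullback.lift (pullback.fst G.t (i₁ ≫ B.ι))
            (pullback.snd G.t (i₁ ≫ B.ι) ≫ (ι' ⁻¹ᵁ B).ι) (by rw [H₁.w, Category.assoc]))
          (by rw [pullback.lift_fst]; exact H₁) (pullback.lift_snd _ _ _) (IsPullback.of_hasPullback G.t ι')
        exact ⟨MorphismProperty.of_isPullback H₂ h1, MorphismProperty.of_isPullback H₂ h2,
          MorphismProperty.of_isPullback H₂ h3⟩
      obtain ⟨d₁, hd₁⟩ := exists_basicOpen_core G (i₁ ≫ B.ι) hfl f₁ fun z => hf₁ (hBW (i₁ z).2)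
      obtain ⟨d, hd⟩ := (IsClosedImmersion.isAffine_surjective_of_isAffine i₁).2 d₁
      have key : B.ι ''ᵁ B.toScheme.basicOpen d = B ⊓ core G W₁ := by
        have hiff : ∀ z : B.toScheme, z ∈ B.toScheme.basicOpen d ↔ z.1 ∈ core G W₁ := fun z => by
          obtain ⟨w, rfl⟩ := hsurj z
          refine Iff.trans ?_ (hd₁ w)
          rw [← hd, ← Scheme.preimage_basicOpen_top]
          rfl
        ext z
        constructor
        · rintro ⟨w, hw, rfl⟩
          exact ⟨w.2, (hiff w).1 hw⟩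
        · exact fun hz => ⟨⟨z, hz.1⟩, (hiff _).2 hz.2, rfl⟩
      rw [← key]
      exact ((isAffineOpen_top B.toScheme).basicOpen d).image_of_isOpenImmersion B.ι
    · obtain ⟨B, hB, hxB, hBle⟩ := exists_isAffineOpen_mem_and_subset (x := x.1) (U := core G W₁) (hC x.1 x.2 hx)
      have hBW : B ≤ W₁ := fun z hz => core_le G W₁ (hBle hz)
      refine ⟨W₁.ι ⁻¹ᵁ B, hxB, hB.preimage_of_isOpenImmersion _ (by rw [Scheme.Opens.opensRange_ι]; exact hBW),
        hpre B hBW ?_⟩
      rwa [inf_eq_left.2 (show B ≤ core G W₁ from hBle)]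
  exact isAffine_of_isAffineHom (G.U.homOfLE (core_le G W₁))

end GrothLib.FittPush13
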