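import Groth.Agent.Lib.FittPush13.Basic
import Groth.Agent.Lib.GrpdQuot.Scheme
import Groth.Agent.Lib.GrpdQuot.Invariant
import Groth.Agent.Lib.GrpdQuot.Restrict
import Groth.Agent.Lib.Hilb26.Glue

/-!
# The invariant thickening with finite locally free source and target
-/

set_option autoImplicit false
set_option linter.style.haveILetI false
set_option backward.isDefEq.respectTransparency false

universe u

open CategoryTheory CategoryTheory.Limits AlgebraicGeometry TopologicalSpace
open GrothLib.GrpdQuot (sat subset_sat core mem_core core_le preimage_core preimage_sat)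

namespace GrothLib.FittPush13

variable {S : Scheme.{u}} (G : Grpd.GroupoidScheme S) [IsFinite G.s]

theorem comap_s_eq_comap_t (k : ℕ) : (fitt G.s k).comap G.s = (fitt G.s k).comap G.t :=
  (comap_fitt G.s (IsPullback.of_hasPullback G.s G.s).flip k).trans
    (comap_fitt G.s (GrothLib.GrpdQuot.isPullback_divHom G).flip k).symm

theorem preimage_support_fitt (k : ℕ) (r : G.R) :
    G.s r ∈ (fitt G.s k).support ↔ G.t r ∈ (fitt G.s k).support := by
  have h := congrArg (fun I : G.R.IdealSheafData => (I.support : Set G.R)) (comap_s_eq_comap_t G k)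
  simp only [Scheme.IdealSheafData.support_comap] at h
  exact Set.ext_iff.1 h r

theorem support_antitone {i j : ℕ} (h : i ≤ j) :
    ((fitt G.s j).support : Set G.U) ⊆ (fitt G.s i).support :=
  Scheme.IdealSheafData.support_antitone (fitt_mono G.s h)

theorem exists_stratum (x : G.U) : ∃ r, x ∈ (fitt G.s r).support ∧ x ∉ (fitt G.s (r + 1)).support := by
  classical
  have h0 : x ∈ (fitt G.s 0).support := by rw [fitt_zero G.s G.e_s]; trivial
  have hex : ∃ n, x ∉ (fitt G.s n).support := by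
    by_contra hc
    push Not at hc
    exact Set.eq_empty_iff_forall_notMem.1 (iInter_support_fitt G.s) x (Set.mem_iInter.2 hc)
  have hn := Nat.find_spec hex
  obtain ⟨r, hr⟩ : ∃ r, Nat.find hex = r + 1 := by
    refine ⟨Nat.find hex - 1, ?_⟩
    rcases Nat.eq_zero_or_pos (Nat.find hex) with h | h
    · exact absurd h0 (h ▸ hn)
    · omega
  exact ⟨r, not_not.1 (Nat.find_min hex (show r < Nat.find hex by omega)), hr ▸ hn⟩

variable [IsFinite G.t]

/-- The invariant open on which the `r`-th stratum is a thickening. -/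
noncomputable def stratum (r : ℕ) : G.U.Opens :=
  core G ⟨interior ((fitt G.s r).support : Set G.U), isOpen_interior⟩ ⊓ (fitt G.s (r + 1)).support.compl

theorem mem_stratum (r : ℕ) (x : G.U) : x ∈ stratum G r ↔
    (∀ a : G.R, G.t a = x → G.s a ∈ interior ((fitt G.s r).support : Set G.U)) ∧
      x ∉ (fitt G.s (r + 1)).support :=
  and_congr (mem_core G _ x) Iff.rfl

theorem stratum_subset (r : ℕ) : (stratum G r : Set G.U) ⊆ (fitt G.s r).support :=
  fun _ hx => interior_subset (core_le G _ hx.1)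

theorem preimage_stratum (r : ℕ) (a : G.R) : G.s a ∈ stratum G r ↔ G.t a ∈ stratum G r := by
  refine and_congr ?_ (not_congr (preimage_support_fitt G (r + 1) a))
  exact SetLike.ext_iff.1
    (preimage_core G ⟨interior ((fitt G.s r).support : Set G.U), isOpen_interior⟩) a

theorem stratum_disjoint {i j : ℕ} (h : i ≠ j) {x : G.U} (hi : x ∈ stratum G i) : x ∉ stratum G j := by
  intro hj
  rcases lt_or_gt_of_ne h with hlt | hlt
  · exact hi.2 (support_antitone G hlt (stratum_subset G j hj))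
  · exact hj.2 (support_antitone G hlt (stratum_subset G i hi))

/-- The union of the strata. -/
noncomputable def total : G.U.Opens := ⨆ r : ℕ, stratum G r

theorem mem_total (x : G.U) : x ∈ total G ↔ ∃ r, x ∈ stratum G r := Opens.mem_iSup

theorem preimage_total : G.s ⁻¹ᵁ total G = G.t ⁻¹ᵁ total G := by
  ext a
  show G.s a ∈ total G ↔ G.t a ∈ total G
  simp only [mem_total, preimage_stratum]

theorem exists_orbit_mem_closure_total (x : G.U) :
    ∃ a : G.R, G.t a = x ∧ G.s a ∈ closure (total G : Set G.U) := by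
  classical
  by_contra hc
  push Not at hc
  let O : G.U.Opens := core G ⟨(closure (total G : Set G.U))ᶜ, isClosed_closure.isOpen_compl⟩
  have hxO : x ∈ O := (mem_core G _ x).2 hc
  obtain ⟨n, hn⟩ : ∃ n, ¬ (O : Set G.U) ⊆ (fitt G.s n).support := by
    obtain ⟨r, -, hr⟩ := exists_stratum G x
    exact ⟨r + 1, fun h => hr (h hxO)⟩
  have hex : ∃ n, ¬ (O : Set G.U) ⊆ (fitt G.s n).support := ⟨n, hn⟩
  obtain ⟨r, hr⟩ : ∃ r, Nat.find hex = r + 1 := by
    refine ⟨Nat.find hex - 1, ?_⟩
    rcases Nat.eq_zero_or_pos (Nat.find hex) with h | h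
    · refine absurd (fun y _ => ?_) (h ▸ Nat.find_spec hex)
      rw [SetLike.mem_coe, fitt_zero G.s G.e_s]
      trivial
    · omega
  have h1 : (O : Set G.U) ⊆ (fitt G.s r).support :=
    not_not.1 (Nat.find_min hex (show r < Nat.find hex by omega))
  obtain ⟨y, hyO, hy⟩ := Set.not_subset.1 (hr ▸ Nat.find_spec hex)
  have hstr : y ∈ stratum G r := by
    refine (mem_stratum G r y).2 ⟨fun a ha => interior_maximal h1 O.isOpen ?_, hy⟩
    have := preimage_core G ⟨(closure (total G : Set G.U))ᶜ, isClosed_closure.isOpen_compl⟩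
    exact (SetLike.ext_iff.1 this a).2 (show G.t a ∈ O from ha ▸ hyO)
  exact core_le G _ hyO (subset_closure ((mem_total G y).2 ⟨r, hstr⟩))

/-- The thickened ideal sheaf on the union of the strata. -/
theorem exists_thickening : ∃ W' : (total G : Scheme.{u}).IdealSheafData, ∀ r : ℕ,
    W'.comap (G.U.homOfLE (le_iSup (stratum G) r)) = (fitt G.s r).comap (stratum G r).ι := by
  obtain ⟨J, hJ⟩ := GrothLib.Hilb26.exists_glue (κ := ULift.{u} ℕ)
    (fun i => G.U.homOfLE (le_iSup (stratum G) i.down))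
    (fun y => by
      obtain ⟨r, hr⟩ := (mem_total G _).1 y.2
      exact ⟨⟨r⟩, ⟨y.1, hr⟩, (total G).ι.isOpenEmbedding.injective
        (congrArg (fun k => k.base ⟨y.1, hr⟩) (G.U.homOfLE_ι _))⟩)
    (fun i => (fitt G.s i.down).comap (stratum G i.down).ι)
    (fun i k T a b hab => by
      by_cases hik : i = k
      · subst hik
        rw [(cancel_mono _).1 hab]
      · have hT : ∀ y : T, False := fun y => by
          refine stratum_disjoint G (fun h => hik (ULift.ext _ _ h)) (a y).2 ?_
          have e : a ≫ (stratum G i.down).ι = b ≫ (stratum G k.down).ι :=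
            (congrArg (a ≫ ·) (G.U.homOfLE_ι (le_iSup (stratum G) i.down))).symm.trans
              ((reassoc_of% hab) (total G).ι |>.trans (congrArg (b ≫ ·) (G.U.homOfLE_ι _)))
          show ((stratum G i.down).ι (a y)) ∈ stratum G k.down
          rw [← Scheme.Hom.comp_apply, e]
          exact (b y).2
        rw [(Scheme.IdealSheafData.support_eq_bot_iff _).1 (Closeds.ext
            (Set.eq_empty_iff_forall_notMem.2 fun y _ => hT y) : (Scheme.IdealSheafData.comap _ a).support = ⊥),
          (Scheme.IdealSheafData.support_eq_bot_iff _).1 (Closeds.ext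
            (Set.eq_empty_iff_forall_notMem.2 fun y _ => hT y) : (Scheme.IdealSheafData.comap _ b).support = ⊥)])
  exact ⟨J, fun r => hJ ⟨r⟩⟩

variable {G} {W' : (total G : Scheme.{u}).IdealSheafData}

theorem support_thickening (hW' : ∀ r : ℕ,
    W'.comap (G.U.homOfLE (le_iSup (stratum G) r)) = (fitt G.s r).comap (stratum G r).ι) :
    W'.support = ⊤ := by
  refine Closeds.ext (Set.eq_univ_of_forall fun y => ?_)
  obtain ⟨r, hr⟩ := (mem_total G _).1 y.2
  have h : (⟨y.1, hr⟩ : (stratum G r : Scheme.{u})) ∈ ((fitt G.s r).comap (stratum G r).ι).support := by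
    rw [Scheme.IdealSheafData.support_comap]
    exact stratum_subset G r hr
  rw [← hW', Scheme.IdealSheafData.support_comap] at h
  have e : G.U.homOfLE (le_iSup (stratum G) r) ⟨y.1, hr⟩ = y := (total G).ι.isOpenEmbedding.injective
    (congrArg (fun k => k.base ⟨y.1, hr⟩) (G.U.homOfLE_ι _))
  exact e ▸ h

theorem factors_iff (hW' : ∀ r : ℕ,
    W'.comap (G.U.homOfLE (le_iSup (stratum G) r)) = (fitt G.s r).comap (stratum G r).ι)
    {T : Scheme.{u}} (h : T ⟶ G.U) :
    (∃ l, l ≫ W'.subschemeι ≫ (total G).ι = h) ↔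
      (∀ y, h y ∈ total G) ∧ ∀ r, (fitt G.s r).comap ((h ⁻¹ᵁ stratum G r).ι ≫ h) = ⊥ := by
  have step : ∀ (g : T ⟶ (total G : Scheme.{u})) (r : ℕ), g ≫ (total G).ι = h →
      W'.comap ((h ⁻¹ᵁ stratum G r).ι ≫ g) = (fitt G.s r).comap ((h ⁻¹ᵁ stratum G r).ι ≫ h) := by
    intro g r hg
    let b := h ∣_ stratum G r
    have hb : b ≫ (stratum G r).ι = (h ⁻¹ᵁ stratum G r).ι ≫ h := morphismRestrict_ι h _
    have hb' : b ≫ G.U.homOfLE (le_iSup (stratum G) r) = (h ⁻¹ᵁ stratum G r).ι ≫ g := by
      rw [← cancel_mono (total G).ι, Category.assoc, Category.assoc, hg]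
      exact (congrArg (b ≫ ·) (G.U.homOfLE_ι _)).trans hb
    rw [← hb', ← hb, Scheme.IdealSheafData.comap_comp, hW', ← Scheme.IdealSheafData.comap_comp]
  constructor
  · rintro ⟨l, rfl⟩
    refine ⟨fun y => (W'.subschemeι (l y)).2, fun r => ?_⟩
    rw [← step (l ≫ W'.subschemeι) r (Category.assoc _ _ _), Scheme.IdealSheafData.comap_comp,
      GrothLib.Hilb26.comap_eq_bot_iff]
    refine le_trans ?_ bot_le
    rw [Scheme.IdealSheafData.comap_comp, (GrothLib.Hilb26.comap_eq_bot_iff _ _).2
      (le_of_eq (Scheme.IdealSheafData.ker_subschemeι _).symm), Scheme.IdealSheafData.comap_bot]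
  · rintro ⟨h1, h2⟩
    let g : T ⟶ (total G : Scheme.{u}) := IsOpenImmersion.lift (total G).ι h
      (by rw [Scheme.Opens.range_ι]; rintro _ ⟨y, rfl⟩; exact h1 y)
    have hg : g ≫ (total G).ι = h := IsOpenImmersion.lift_fac _ _ _
    have hle : W'.subschemeι.ker ≤ g.ker := by
      rw [Scheme.IdealSheafData.ker_subschemeι, ← GrothLib.Hilb26.comap_eq_bot_iff]
      refine GrothLib.Hilb26.eq_bot_of_local _ fun y => ?_
      obtain ⟨r, hr⟩ := (mem_total G _).1 (h1 y)
      exact ⟨h ⁻¹ᵁ stratum G r, hr, by rw [← Scheme.IdealSheafData.comap_comp, step g r hg, h2]⟩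
    exact ⟨IsClosedImmersion.lift W'.subschemeι g hle, by rw [IsClosedImmersion.lift_fac_assoc, hg]⟩

theorem factors_s_iff_t (hW' : ∀ r : ℕ,
    W'.comap (G.U.homOfLE (le_iSup (stratum G) r)) = (fitt G.s r).comap (stratum G r).ι)
    {T : Scheme.{u}} (a : T ⟶ G.R) :
    (∃ l, l ≫ W'.subschemeι ≫ (total G).ι = a ≫ G.s) ↔
      ∃ l, l ≫ W'.subschemeι ≫ (total G).ι = a ≫ G.t := by
  rw [factors_iff hW', factors_iff hW']
  refine and_congr (forall_congr' fun y => ?_) (forall_congr' fun r => ?_)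
  · simp only [Scheme.Hom.comp_apply, mem_total, preimage_stratum]
  · have hO : (a ≫ G.s) ⁻¹ᵁ stratum G r = (a ≫ G.t) ⁻¹ᵁ stratum G r := by
      ext y; exact preimage_stratum G r (a y)
    rw [hO, ← Category.assoc, Scheme.IdealSheafData.comap_comp, comap_s_eq_comap_t,
      ← Scheme.IdealSheafData.comap_comp, Category.assoc]

theorem exists_iso (hW' : ∀ r : ℕ,
    W'.comap (G.U.homOfLE (le_iSup (stratum G) r)) = (fitt G.s r).comap (stratum G r).ι) :
    ∃ φ : pullback G.s (W'.subschemeι ≫ (total G).ι) ≅ pullback G.t (W'.subschemeι ≫ (total G).ι),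
      φ.hom ≫ pullback.fst G.t (W'.subschemeι ≫ (total G).ι) =
        pullback.fst G.s (W'.subschemeι ≫ (total G).ι) := by
  obtain ⟨l₁, h₁⟩ := (factors_s_iff_t hW' (pullback.fst G.s (W'.subschemeι ≫ (total G).ι))).1
    ⟨_, pullback.condition.symm⟩
  obtain ⟨l₂, h₂⟩ := (factors_s_iff_t hW' (pullback.fst G.t (W'.subschemeι ≫ (total G).ι))).2
    ⟨_, pullback.condition.symm⟩
  refine ⟨⟨pullback.lift _ l₁ h₁.symm, pullback.lift _ l₂ h₂.symm, ?_, ?_⟩, pullback.lift_fst _ _ _⟩
  · rw [← cancel_mono (pullback.fst G.s _), Category.assoc, pullback.lift_fst, pullback.lift_fst,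
      Category.id_comp]
  · rw [← cancel_mono (pullback.fst G.t _), Category.assoc, pullback.lift_fst, pullback.lift_fst,
      Category.id_comp]

theorem isFinLocFree_s (hW' : ∀ r : ℕ,
    W'.comap (G.U.homOfLE (le_iSup (stratum G) r)) = (fitt G.s r).comap (stratum G r).ι) :
    Mor2.IsFinLocFree (pullback.snd G.s (W'.subschemeι ≫ (total G).ι)) := by
  set ι' := W'.subschemeι ≫ (total G).ι with hι
  let O : ℕ → W'.subscheme.Opens := fun r => ι' ⁻¹ᵁ stratum G r
  have hcov : ⨆ r, O r = ⊤ := eq_top_iff.2 fun y _ => by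
    obtain ⟨r, hr⟩ := (mem_total G _).1 (W'.subschemeι y).2
    exact Opens.mem_iSup.2 ⟨r, hr⟩
  have hloc : ∀ r, Mor2.IsFinLocFreeOfDeg (r + 1) (pullback.snd G.s ι' ∣_ O r) := by
    intro r
    have H := (isPullback_morphismRestrict (pullback.snd G.s ι') (O r)).flip.paste_horiz
      (IsPullback.of_hasPullback G.s ι')
    refine isFinLocFreeOfDeg_of_fitt _ (r + 1) (fun k hk => ?_) ?_
    · rw [← comap_fitt G.s H k, eq_bot_iff]
      refine (Scheme.IdealSheafData.comap_mono _ (fitt_mono G.s (Nat.lt_succ_iff.1 hk))).trans (le_of_eq ?_)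
      exact ((factors_iff hW' ι').1 ⟨𝟙 _, Category.id_comp _⟩).2 r
    · rw [← comap_fitt G.s H (r + 1), ← Scheme.IdealSheafData.support_eq_bot_iff,
        Scheme.IdealSheafData.support_comap]
      refine Closeds.ext (Set.eq_empty_iff_forall_notMem.2 fun y hy => ?_)
      exact (y.2 : _ ∈ stratum G r).2 hy
  exact ⟨inferInstance, IsZariskiLocalAtTarget.of_iSup_eq_top (P := @Flat) O hcov fun r => (hloc r).1.2.1,
    IsZariskiLocalAtTarget.of_iSup_eq_top (P := @LocallyOfFinitePresentation) O hcov fun r => (hloc r).1.2.2⟩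

theorem isFinLocFree_t (hW' : ∀ r : ℕ,
    W'.comap (G.U.homOfLE (le_iSup (stratum G) r)) = (fitt G.s r).comap (stratum G r).ι) :
    Mor2.IsFinLocFree (pullback.snd G.t (W'.subschemeι ≫ (total G).ι)) := by
  haveI : IsIso G.i := ⟨G.i, GrothLib.GrpdQuot.i_i G, GrothLib.GrpdQuot.i_i G⟩
  have H : IsPullback (pullback.fst G.t (W'.subschemeι ≫ (total G).ι) ≫ G.i)
      (pullback.snd G.t (W'.subschemeι ≫ (total G).ι)) G.s ((W'.subschemeι ≫ (total G).ι) ≫ 𝟙 _) :=
    (IsPullback.of_hasPullback G.t _).paste_horiz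
      (IsPullback.of_horiz_isIso ⟨by rw [G.i_s, Category.comp_id]⟩)
  rw [Category.comp_id] at H
  obtain ⟨h1, h2, h3⟩ := isFinLocFree_s hW'
  rw [show pullback.snd G.t (W'.subschemeι ≫ (total G).ι) = H.isoPullback.hom ≫ pullback.snd G.s _ from
    H.isoPullback_hom_snd.symm]
  exact ⟨inferInstance, inferInstance, inferInstance⟩

end GrothLib.FittPush13
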