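import Groth.Agent.Lib.FittPush13.Grpd
import Groth.Agent.Lib.AbsApprox.ClosedApprox
import Groth.Agent.Lib.GrpdQuot.InvariantOpen

/-!
# The invariant thickening in the finitely presented case
-/

set_option autoImplicit false
set_option linter.style.haveILetI false
set_option backward.isDefEq.respectTransparency false

universe u

open CategoryTheory CategoryTheory.Limits AlgebraicGeometry TopologicalSpace
open GrothLib.GrpdQuot (sat subset_sat core mem_core core_le preimage_core preimage_sat)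

namespace GrothLib.FittPush13

theorem fitt_fg {X Y : Scheme.{u}} (f : X ⟶ Y) [IsFinite f] [LocallyOfFinitePresentation f] (k : ℕ)
    (V : Y.affineOpens) : ((fitt f k).ideal V).FG := by
  rw [fitt_ideal, ringFitt]
  letI := (f.app V.1).hom.toAlgebra
  haveI : Module.Finite Γ(Y, V.1) Γ(X, f ⁻¹ᵁ V.1) := f.finite_app V.1 V.2
  haveI : Algebra.FinitePresentation Γ(Y, V.1) Γ(X, f ⁻¹ᵁ V.1) := by
    have := f.finitePresentation_appLE V.2 (V.2.preimage f) le_rfl
    rwa [← Scheme.Hom.app_eq_appLE] at this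
  haveI : Module.FinitePresentation Γ(Y, V.1) Γ(X, f ⁻¹ᵁ V.1) :=
    Module.FinitePresentation.of_finite_of_finitePresentation _ _
  exact Fitting.ideal_fg k

/-- A maximal point of a closed set with finitely generated ideal is an interior point. -/
theorem mem_interior_support_of_generic {X : Scheme.{u}} (I : X.IdealSheafData)
    (hfg : ∀ V : X.affineOpens, (I.ideal V).FG) {v : X} (hgen : ∀ x : X, x ⤳ v → x = v)
    (hv : v ∈ I.support) : v ∈ interior (I.support : Set X) := by
  classical
  obtain ⟨V, hV, hvV, -⟩ := exists_isAffineOpen_mem_and_subset (x := v) (U := ⊤) trivial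
  obtain ⟨F, hF⟩ := hfg ⟨V, hV⟩
  have hmem : ∀ x ∈ V, x ∈ I.support ↔ ∀ a ∈ F, x ∉ X.basicOpen a := fun x hx => by
    rw [Scheme.IdealSheafData.mem_support_iff_of_mem (U := ⟨V, hV⟩) hx, ← hF]
    show x ∈ X.zeroLocus (↑(Ideal.span (↑F : Set Γ(X, V))) : Set Γ(X, V)) ↔ _
    rw [Scheme.zeroLocus_span, Scheme.mem_zeroLocus_iff]
    rfl
  have hclosed : ∀ a ∈ F, v ∉ closure (X.basicOpen a : Set X) := by
    intro a ha hc
    let D : (V : Scheme.{u}).Opens := V.ι ⁻¹ᵁ X.basicOpen a
    haveI : IsAffine (V : Scheme.{u}) := hV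
    haveI : IsAffine (D : Scheme.{u}) :=
      (hV.basicOpen a).preimage_of_isOpenImmersion V.ι (by
        rw [Scheme.Opens.opensRange_ι]; exact X.basicOpen_le a)
    have hc' : (⟨v, hvV⟩ : (V : Scheme.{u})) ∈ closure (⇑D.ι '' Set.univ) := by
      rw [Set.image_univ, Scheme.Opens.range_ι, V.ι.isOpenEmbedding.isInducing.closure_eq_preimage_closure_image]
      refine closure_mono ?_ hc
      intro x hx
      exact ⟨⟨x, X.basicOpen_le a hx⟩, hx, rfl⟩
    obtain ⟨z, -, hz⟩ := GrothLib.GrpdQuot.exists_specializes_of_mem_closure D.ι Set.univ isClosed_univ _ hc'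
    have hzv : V.ι (D.ι z) = v := hgen _ (hz.map V.ι.continuous)
    exact (hmem v hvV).1 hv a ha (hzv ▸ z.2)
  refine mem_interior.2 ⟨(V : Set X) \ ⋃ a ∈ F, closure (X.basicOpen a : Set X), fun x hx => ?_,
    V.isOpen.sdiff (isClosed_biUnion_finset fun _ _ => isClosed_closure), hvV, ?_⟩
  · exact (hmem x hx.1).2 fun a ha h => hx.2 (Set.mem_biUnion ha (subset_closure h))
  · simp only [Set.mem_iUnion, not_exists]
    exact hclosed

variable {S : Scheme.{u}} {G : Grpd.GroupoidScheme S} [IsFinite G.s] [IsFinite G.t]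

theorem mem_total_of_generic [LocallyOfFinitePresentation G.s] {x : G.U}
    (h : ∀ a : G.R, G.s a = x → ∀ y : G.U, y ⤳ G.t a → y = G.t a) : x ∈ total G := by
  obtain ⟨r, hr, hr'⟩ := exists_stratum G x
  refine (mem_total G x).2 ⟨r, (mem_stratum G r x).2 ⟨fun a ha => ?_, hr'⟩⟩
  obtain ⟨a', ha't, ha's⟩ := GrothLib.GrpdQuot.exists_inv_pt G a
  refine mem_interior_support_of_generic _ (fitt_fg G.s r) ?_ ((preimage_support_fitt G r a).2 (ha ▸ hr))
  rw [← ha't]
  exact h a' (ha's.trans ha)

theorem lfp_subschemeι [LocallyOfFinitePresentation G.s] {W' : (total G : Scheme.{u}).IdealSheafData}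
    (hW' : ∀ r : ℕ,
    W'.comap (G.U.homOfLE (le_iSup (stratum G) r)) = (fitt G.s r).comap (stratum G r).ι) :
    LocallyOfFinitePresentation W'.subschemeι := by
  let j := fun r => G.U.homOfLE (le_iSup (stratum G) r)
  have hcov : ⨆ r, (j r).opensRange = ⊤ := eq_top_iff.2 fun y _ => by
    obtain ⟨r, hr⟩ := (mem_total G _).1 y.2
    exact Opens.mem_iSup.2 ⟨r, ⟨y.1, hr⟩, (total G).ι.isOpenEmbedding.injective
      (congrArg (fun k => k.base ⟨y.1, hr⟩) (G.U.homOfLE_ι _))⟩
  refine IsZariskiLocalAtTarget.of_iSup_eq_top (P := @LocallyOfFinitePresentation) _ hcov fun r => ?_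
  rw [MorphismProperty.arrow_mk_iso_iff @LocallyOfFinitePresentation
    (morphismRestrictOpensRange W'.subschemeι (j r)), ← pullbackSymmetry_hom_comp_fst,
    ← Scheme.IdealSheafData.comapIso_inv_subschemeι,
    MorphismProperty.cancel_left_of_respectsIso @LocallyOfFinitePresentation,
    MorphismProperty.cancel_left_of_respectsIso @LocallyOfFinitePresentation, hW',
    ← Scheme.IdealSheafData.comapIso_hom_fst,
    MorphismProperty.cancel_left_of_respectsIso @LocallyOfFinitePresentation]
  haveI := GrothLib.AbsApprox.lfp_subschemeι (fitt G.s r) (fitt_fg G.s r)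
  exact MorphismProperty.pullback_fst _ _ inferInstance

end GrothLib.FittPush13
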